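import Groth.Agent.RigidDef.Basic
import Groth.Agent.DefFun.Model
import Groth.Agent.S5815
import Mathlib.AlgebraicGeometry.Morphisms.Smooth

/-!
A rational point in the smooth locus lifts to every deformation over an Artinian algebra.
-/

set_option autoImplicit false
set_option linter.style.haveILetI false
set_option backward.isDefEq.respectTransparency false

universe u

open CategoryTheory CategoryTheory.Limits AlgebraicGeometry IsLocalRing TensorProduct

namespace Groth.Agent.PtLift

open ArtFun ArtFun.Art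

variable {k : Type u} [Field k] {X : Scheme.{u}} {x : X ⟶ specPt k}

/-- the section through a point -/
theorem exists_sect [Smooth x] (P : specPt k ⟶ X) (hP : P ≫ x = 𝟙 (specPt k)) {A : Art k k} (ξ : DefSch X x A) :
    ∃ s : spec A ⟶ ξ.total, s ≫ ξ.f = 𝟙 (spec A) ∧ P ≫ ξ.i = specRes A ≫ s := by
  haveI : IsClosedImmersion (specRes A) := IsClosedImmersion.spec_of_surjective _ A.res_surjective
  haveI : IsClosedImmersion ξ.i := MorphismProperty.of_isPullback ξ.isPullback.flip inferInstance
  haveI : Flat ξ.f := ξ.flat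
  obtain ⟨_, ⟨V, hV : IsAffineOpen V, rfl⟩, hyV, -⟩ := ξ.total.isBasis_affineOpens.exists_subset_of_mem_open
    (Set.mem_univ (ξ.i (P (closedPoint k)))) isOpen_univ
  let W : X.Opens := ξ.i ⁻¹ᵁ V
  have hW : IsAffineOpen W := hV.preimage ξ.i
  let B₀ : Type u := Γ(X, W)
  obtain ⟨sk, hsk⟩ := Spec.map_surjective (hW.fromSpec ≫ x)
  letI : Algebra k B₀ := sk.hom.toAlgebra
  have hsk' : Spec.map (CommRingCat.ofHom (algebraMap k B₀)) = hW.fromSpec ≫ x := hsk
  haveI : Smooth (hW.fromSpec ≫ x) := inferInstance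
  haveI : Algebra.Smooth k B₀ := RingHom.smooth_algebraMap.1
    ((HasRingHomProperty.Spec_iff (P := @Smooth)).1 (by rw [hsk]; infer_instance))
  -- the restriction to the affine open
  let qV : Γ(ξ.total, V) ⟶ Γ(X, W) := ξ.i.appLE V W le_rfl
  have hsq : Spec.map qV ≫ hV.fromSpec = hW.fromSpec ≫ ξ.i := IsAffineOpen.SpecMap_appLE_fromSpec _ hV hW le_rfl
  have hpb : IsPullback (Spec.map qV) hW.fromSpec hV.fromSpec ξ.i :=
    IsOpenImmersion.isPullback _ _ _ _ hsq.symm (by rw [hV.opensRange_fromSpec, hW.opensRange_fromSpec])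
  let ξV : DefSch (Spec (CommRingCat.of B₀)) (Spec.map (CommRingCat.ofHom (algebraMap k B₀))) A :=
    { total := Spec Γ(ξ.total, V)
      f := hV.fromSpec ≫ ξ.f
      flat := inferInstance
      i := Spec.map qV
      isPullback := by
        rw [hsk']
        exact hpb.paste_vert ξ.isPullback }
  obtain ⟨M, hM⟩ := DefFun.exists_model ξV.cl
  obtain ⟨θ⟩ := Quotient.exact (s := DefSch.setoid _ _ A) hM
  -- triviality
  letI : Algebra A.carrier M.T := M.φ.toAlgebra
  haveI : Module.Flat A.carrier M.T := M.flat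
  letI : Algebra k M.T := (M.φ.comp (algebraMap k A.carrier)).toAlgebra
  haveI : IsScalarTower k A.carrier M.T := IsScalarTower.of_algebraMap_eq fun c => rfl
  let qA : M.T →ₐ[k] B₀ := { M.q with
    commutes' := fun c => (RingHom.congr_fun M.w (algebraMap k A.carrier c)).trans
      (congrArg (algebraMap k B₀) (A.res.commutes c)) }
  obtain ⟨σ, hσ⟩ := RigidDef.exists_section (A := A.carrier) qA M.surj M.ker
    (fun E => (Groth.Agent.S5815.result k B₀).1 inferInstance B₀ E)
  let h : A.carrier ⊗[k] B₀ →ₐ[A.carrier] M.T :=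
    Algebra.TensorProduct.lift (Algebra.ofId A.carrier M.T) σ fun _ _ => .all _ _
  have hh : ∀ a b, h (a ⊗ₜ b) = algebraMap A.carrier M.T a * σ b := fun a b => by
    simp only [h, Algebra.TensorProduct.lift_tmul]
    rfl
  let εq : A.carrier ⊗[k] B₀ →+* B₀ := (qA.toRingHom).comp h.toRingHom
  have hεq : ∀ a b, εq (a ⊗ₜ b) = algebraMap k B₀ (A.res a) * b := fun a b => by
    show qA (h (a ⊗ₜ b)) = _
    rw [hh, map_mul, hσ]
    exact congrArg (· * b) (RingHom.congr_fun M.w a)
  have hbij : Function.Bijective h := DefFun.bijective_of_fibre ArtFlat.isNilpotent_maximalIdeal h εq M.q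
    (fun b => ⟨1 ⊗ₜ b, by rw [hεq, map_one, map_one, one_mul]⟩) (fun _ => rfl)
    (fun z hz => by
      have key : ∀ z : A.carrier ⊗[k] B₀, z - 1 ⊗ₜ εq z ∈
          (maximalIdeal A.carrier).map (algebraMap A.carrier (A.carrier ⊗[k] B₀)) := fun z => by
        induction z using TensorProduct.induction_on with
        | zero => simp
        | tmul a b =>
          rw [hεq]
          have e : a ⊗ₜ[k] b - (1 : A.carrier) ⊗ₜ (algebraMap k B₀ (A.res a) * b) =
              algebraMap A.carrier (A.carrier ⊗[k] B₀) (a - algebraMap k A.carrier (A.res a)) * (1 ⊗ₜ b) := by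
            rw [← Algebra.smul_def (A.res a) b, ← TensorProduct.smul_tmul, Algebra.TensorProduct.algebraMap_apply,
              Algebra.TensorProduct.tmul_mul_tmul, Algebra.algebraMap_self_apply, mul_one, one_mul,
              ← TensorProduct.sub_tmul, Algebra.algebraMap_eq_smul_one]
          rw [e]
          refine Ideal.mul_mem_right _ _ (Ideal.mem_map_of_mem _ ?_)
          rw [A.mem_maximalIdeal_iff, map_sub, A.res.commutes]
          exact sub_self _
        | add z z' hz hz' => rw [map_add, tmul_add, add_sub_add_comm]; exact add_mem hz hz'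
      have := key z
      rwa [RingHom.mem_ker.1 hz, tmul_zero, sub_zero] at this)
    M.ker
  -- the point
  have hPW : Set.range P ⊆ Set.range hW.fromSpec := by
    rw [hW.range_fromSpec]
    rintro _ ⟨z, rfl⟩
    haveI : Subsingleton (specPt k) := inferInstanceAs (Subsingleton (PrimeSpectrum k))
    rw [Subsingleton.elim z (closedPoint k)]
    exact hyV
  obtain ⟨ε, hε⟩ := Spec.map_surjective (IsOpenImmersion.lift hW.fromSpec P hPW)
  have hεP : Spec.map ε ≫ hW.fromSpec = P := by rw [hε]; exact IsOpenImmersion.lift_fac _ _ _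
  have hεk : ∀ c, ε.hom (algebraMap k B₀ c) = c := fun c => by
    have h1 : Spec.map ε ≫ Spec.map (CommRingCat.ofHom (algebraMap k B₀)) = Spec.map (𝟙 (CommRingCat.of k)) := by
      rw [hsk', ← Category.assoc, hεP, hP, Spec.map_id]
    rw [← Spec.map_comp] at h1
    exact RingHom.congr_fun (congrArg CommRingCat.Hom.hom (Spec.map_injective h1)) c
  let εA : B₀ →ₐ[k] k := { ε.hom with commutes' := hεk }
  let r : A.carrier ⊗[k] B₀ →ₐ[A.carrier] A.carrier :=
    Algebra.TensorProduct.lift (AlgHom.id A.carrier A.carrier) ((Algebra.ofId k A.carrier).comp εA) fun _ _ => .all _ _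
  let sT : M.T →ₐ[A.carrier] A.carrier := r.comp (AlgEquiv.ofBijective h hbij).symm.toAlgHom
  have hsφ : (sT.toRingHom).comp M.φ = RingHom.id A.carrier := RingHom.ext fun a => sT.commutes a
  have hres : A.res.toRingHom.comp sT.toRingHom = ε.hom.comp M.q := RingHom.ext fun t => by
    obtain ⟨z, rfl⟩ := hbij.2 t
    show A.res (r ((AlgEquiv.ofBijective h hbij).symm (h z))) = ε.hom (εq z)
    rw [show (AlgEquiv.ofBijective h hbij).symm (h z) = z from (AlgEquiv.ofBijective h hbij).symm_apply_apply z]
    induction z using TensorProduct.induction_on with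
    | zero => simp
    | tmul a b =>
      rw [hεq, map_mul, hεk]
      simp only [r, Algebra.TensorProduct.lift_tmul, map_mul, AlgHom.comp_apply, Algebra.ofId_apply]
      exact congrArg (A.res a * ·) (A.res.commutes (εA b))
    | add z z' hz hz' => simp only [map_add, hz, hz']
  refine ⟨Spec.map (CommRingCat.ofHom sT.toRingHom) ≫ θ.iso.hom ≫ hV.fromSpec, ?_, ?_⟩
  · rw [Category.assoc, Category.assoc, show θ.iso.hom ≫ hV.fromSpec ≫ ξ.f = M.sch.f from θ.hom_f,
      show M.sch.f = Spec.map (CommRingCat.ofHom M.φ) from rfl, ← Spec.map_comp, ← CommRingCat.ofHom_comp, hsφ]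
    exact Spec.map_id _
  · have h1 : specRes A ≫ Spec.map (CommRingCat.ofHom sT.toRingHom) =
        Spec.map ε ≫ Spec.map (CommRingCat.ofHom M.q) := by
      show Spec.map (CommRingCat.ofHom A.res.toRingHom) ≫ _ = _
      rw [← Spec.map_comp, ← Spec.map_comp, ← CommRingCat.ofHom_comp, hres]
      rfl
    rw [← Category.assoc, h1, Category.assoc,
      show Spec.map (CommRingCat.ofHom M.q) ≫ θ.iso.hom ≫ hV.fromSpec = Spec.map qV ≫ hV.fromSpec by
        rw [← Category.assoc]; exact congrArg (· ≫ hV.fromSpec) θ.i_hom, hsq, ← Category.assoc, hεP]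

end Groth.Agent.PtLift
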